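import Cfsg.Agent.Lib.Char.SmallOrderGraph.Block
import Cfsg.Agent.Lib.Small.OrderSieve
import Cfsg.Agent.Lib.Small.Order5040
import Cfsg.Agent.Lib.Small.SLnBlocks
import Cfsg.Agent.Lib.Perm.PermChar

/-!
# The principal 13-block of a simple group of order 5616
-/

set_option autoImplicit false

namespace Cfsg.Agent.Char.SmallOrderGraph.ThreeThree

open Cfsg Cfsg.Agent.Char Cfsg.Agent.Lead.BlockDeg Cfsg.Agent.Small.Order459648
open Cfsg.Agent.Small
open scoped ComplexConjugate

universe u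

variable {G : Type u} [Group G] [Fintype G]

theorem pairs : ∀ n ∈ OrderSieve.adm 13 432, ∀ e < 13,
    e ≠ 1 → 12 % e = 0 → 432 % (n * e) = 0 → OrderSieve.small 5616 n = true ∨
      OrderSearch.checkPair 13 432 n e = true ∨ (n = 144 ∧ e = 3) := by decide +kernel

/-- The admissible signed degrees. -/
def signed : List ℤ :=
  ((DegreeSearch.divs 432).filter fun d => decide (1 < d ∧ d * d < 5616)).flatMap fun d : ℕ =>
    [(d : ℤ), -(d : ℤ)].filter fun D => decide (D % 13 = 1)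

theorem solve : ∀ A ∈ signed, ∀ B ∈ signed,
    (1 + A + B) % 13 = 3 → (5616 : ℤ) % (1 + A + B) = 0 →
      1 + A * A + B * B + 4 * ((1 + A + B) * (1 + A + B)) ≤ 5616 →
      (A = -12 ∧ B = 27) ∨ (A = 27 ∧ B = -12) := by decide +kernel

/-- The three characters of small degree. -/
structure Degrees (G : Type u) [Group G] [Fintype G] : Prop where
  cent : ∀ g : G, orderOf g = 13 → Nat.card (Subgroup.centralizer ({g} : Set G)) = 13
  low : ∀ χ : IrrCharacter G, χ ≠ oneChar → 12 ≤ charDegree (χ : G → ℂ)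
  rel : ∃ χ₁ χ₂ θ : IrrCharacter G, charDegree (χ₁ : G → ℂ) = 12 ∧
    charDegree (χ₂ : G → ℂ) = 27 ∧ charDegree (θ : G → ℂ) = 16 ∧
    ∀ g : G, ¬ 13 ∣ orderOf g → (θ : G → ℂ) g = 1 - (χ₁ : G → ℂ) g + (χ₂ : G → ℂ) g

theorem degrees [IsSimpleGroup G] (hna : ¬ IsMulCommutative G) (hN : Nat.card G = 5616) :
    Degrees G := by
  classical
  haveI : Fact (Nat.Prime 13) := ⟨by norm_num⟩
  have hG : Nat.card G = 13 * 432 := hN
  obtain ⟨P, e, hP, ⟨hn1, hn2, hn3⟩, he, he1, he2, he3⟩ :=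
    sylow_data hG (by norm_num : ¬ 13 ∣ 432) (by norm_num)
  have hele : e ≤ 12 := Nat.le_of_dvd (by norm_num) he1
  have hmem : Nat.card (Sylow 13 G) ∈ OrderSieve.adm 13 432 := by
    simp only [OrderSieve.adm, List.mem_filter, decide_eq_true_eq]
    exact ⟨DegreeSearch.mem_divs (by norm_num) hn1, hn2, hn3⟩
  rcases pairs _ hmem e (by omega) he2 (Nat.mod_eq_zero_of_dvd he1)
    (Nat.mod_eq_zero_of_dvd he3) with h | h | ⟨hn, hee⟩
  · have hidx : (Subgroup.normalizer ((P : Subgroup G) : Set G)).index = Nat.card (Sylow 13 G) :=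
      (Sylow.card_eq_index_normalizer P).symm
    refine (OrderSieve.false_of_small hna (Subgroup.normalizer ((P : Subgroup G) : Set G))
      (fun e1 => hn3 (by rw [← hidx, e1, Subgroup.index_top])) ?_).elim
    rw [hN, hidx]; exact h
  · exact (OrderSearch.false_of_checkPair hna (by norm_num) P hP he he1 he2 hG (by norm_num)
      (by norm_num) rfl h).elim
  subst hee
  have hC := Order5040.card_centralizer P he
  rw [hn, hN] at hC
  have hC13 : Nat.card (Subgroup.centralizer ((P : Subgroup G) : Set G)) = 13 := by omega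
  obtain ⟨M, X, Y, a, δ, h, -, hdvd⟩ := exists_data P hP he hC13
  have hcent : ∀ g : G, orderOf g = 13 → Nat.card (Subgroup.centralizer ({g} : Set G)) = 13 := by
    intro g hg
    obtain ⟨R, hR⟩ := (IsPGroup.of_card (n := 1) (by rw [Nat.card_zpowers, hg, pow_one]) :
      IsPGroup 13 (Subgroup.zpowers g)).exists_le_sylow
    have hne : g ≠ 1 := fun e1 => by rw [e1, orderOf_one] at hg; norm_num at hg
    obtain ⟨x, hx'⟩ : ∃ x, x * g * x⁻¹ ∈ (P : Subgroup G) := by
      obtain ⟨x, hx'⟩ := MulAction.exists_smul_eq G R P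
      refine ⟨x, ?_⟩
      rw [← hx', Sylow.coe_subgroup_smul]
      exact ⟨g, hR (Subgroup.mem_zpowers g), rfl⟩
    have hne' : x * g * x⁻¹ ≠ 1 := fun e1 => hne (conj_eq_one_iff.mp e1)
    have h1 : Nat.card (Subgroup.centralizer ({x * g * x⁻¹} : Set G)) = 13 := by
      rw [← centralizer_zpowers_eq, eq_zpowers_of_prime_sylow hP hx' hne', hC13]
    have h2 : Nat.card {y : G // IsConj g y} = Nat.card {y : G // IsConj (x * g * x⁻¹) y} :=
      Nat.card_congr (Equiv.subtypeEquivRight fun y =>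
        ⟨fun h' => (isConj_iff.mpr ⟨x, rfl⟩ : IsConj g (x * g * x⁻¹)).symm.trans h',
          fun h' => (isConj_iff.mpr ⟨x, rfl⟩ : IsConj g (x * g * x⁻¹)).trans h'⟩)
    rw [card_conjClass_eq_index, card_conjClass_eq_index] at h2
    have h3 := (Subgroup.centralizer ({g} : Set G)).card_mul_index
    have h4 := (Subgroup.centralizer ({x * g * x⁻¹} : Set G)).card_mul_index
    rw [h1, ← h2, hN] at h4
    rw [hN] at h3
    refine Nat.eq_of_mul_eq_mul_right (m := (Subgroup.centralizer ({g} : Set G)).index) ?_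
      (h3.trans h4.symm)
    exact Nat.pos_of_ne_zero Subgroup.index_ne_zero_of_finite
  have hval : ∀ χ : IrrCharacter G, (χ : G → ℂ) 1 = (charDegree (χ : G → ℂ) : ℂ) :=
    fun χ => char_one_eq_deg (irr_isCharacter χ.2)
  have hdN : ∀ χ : IrrCharacter G, charDegree (χ : G → ℂ) ∣ 5616 := fun χ => by
    rw [← hN]; exact deg_dvd_card χ.2
  have hone : oneChar ∈ X := by
    by_contra hX1
    by_cases hY : (oneChar : IrrCharacter G) ∈ Y
    · have h1 := h.congrY _ hY
      rw [charDegree_oneChar] at h1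
      rcases h.sign with e | e <;> rw [e] at h1 <;> exact absurd h1 (by decide)
    · have := hdvd _ hX1 hY
      rw [charDegree_oneChar] at this
      norm_num at this
  have hone' : a oneChar = 1 := by
    have h1 := h.a_congr _ hone
    rw [charDegree_oneChar] at h1
    rcases h.a_sign _ hone with e | e <;> rw [e] at h1
    · exact e
    · exact absurd h1 (by decide)
  obtain ⟨χ, χ', hne, hX⟩ := Finset.card_eq_two.mp
    (show (X.erase oneChar).card = 2 by rw [Finset.card_erase_of_mem hone, h.cardX])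
  have hχX : χ ∈ X ∧ χ ≠ oneChar := by
    have : χ ∈ X.erase oneChar := by rw [hX]; simp
    exact ⟨Finset.mem_of_mem_erase this, Finset.ne_of_mem_erase this⟩
  have hχ'X : χ' ∈ X ∧ χ' ≠ oneChar := by
    have : χ' ∈ X.erase oneChar := by rw [hX]; simp
    exact ⟨Finset.mem_of_mem_erase this, Finset.ne_of_mem_erase this⟩
  obtain ⟨θ, hθ⟩ : Y.Nonempty := by rw [← Finset.card_pos, h.cardY]; norm_num
  have hrel : ∀ g : G, ¬ 13 ∣ orderOf g → (δ : ℂ) * (θ : G → ℂ) g =
      1 + (a χ : ℂ) * (χ : G → ℂ) g + (a χ' : ℂ) * (χ' : G → ℂ) g := by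
    intro g hg
    rw [h.rel θ hθ g hg, ← Finset.add_sum_erase X _ hone, hX, Finset.sum_pair hne, hone',
      Int.cast_one, one_mul, add_assoc]
    simp [oneChar]
  -- squares
  have hdegY : ∀ ψ ∈ Y, charDegree (ψ : G → ℂ) = charDegree (θ : G → ℂ) := fun ψ hψ => by
    have h3 := h.regY ψ hψ θ hθ 1 (by rw [orderOf_one]; norm_num)
    rw [hval, hval] at h3
    exact_mod_cast h3
  have hsq : 1 + charDegree (χ : G → ℂ) ^ 2 + charDegree (χ' : G → ℂ) ^ 2 +
      4 * charDegree (θ : G → ℂ) ^ 2 ≤ 5616 := by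
    have h1 : ∑ χ : IrrCharacter G, charDegree (χ : G → ℂ) ^ 2 = 5616 := by
      have := sum_sq_deg (G := G)
      simp only [hval] at this
      rw [← hN]
      exact_mod_cast this
    have h2 : ∑ ψ ∈ Y, charDegree (ψ : G → ℂ) ^ 2 = 4 * charDegree (θ : G → ℂ) ^ 2 := by
      rw [Finset.sum_congr rfl (g := fun _ => charDegree (θ : G → ℂ) ^ 2)
        fun ψ hψ => by rw [hdegY ψ hψ], Finset.sum_const, h.cardY, smul_eq_mul]
    rw [← h2, ← h1]
    refine le_of_eq_of_le ?_ (Finset.sum_le_univ_sum_of_nonneg (s := X ∪ Y)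
      (f := fun χ : IrrCharacter G => charDegree (χ : G → ℂ) ^ 2) fun _ => Nat.zero_le _)
    rw [Finset.sum_union h.disj, ← Finset.add_sum_erase X _ hone, hX, Finset.sum_pair hne,
      charDegree_oneChar]
    ring
  have hsigned : ∀ ψ ∈ X, ψ ≠ oneChar →
      a ψ * (charDegree (ψ : G → ℂ) : ℤ) ∈ signed := by
    intro ψ hψ hψ1
    have hd1 := one_lt_degree hna hψ1
    have hd2 : charDegree (ψ : G → ℂ) * charDegree (ψ : G → ℂ) < 5616 := by
      rcases Finset.mem_erase.mpr ⟨hψ1, hψ⟩ |> (fun hm => by rwa [hX] at hm :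
        ψ ∈ X.erase oneChar → ψ ∈ ({χ, χ'} : Finset _)) |> Finset.mem_insert.mp with e | e
      · subst e; nlinarith
      · rw [Finset.mem_singleton] at e; subst e; nlinarith
    have hcl : charDegree (ψ : G → ℂ) ∣ 432 := by
      obtain ⟨y, hy⟩ := nonOne_nonempty P hP
      have hclass : Nat.card {x : G // IsConj (y : G) x} = 432 := by
        have hzp : orderOf (y : G) = 13 := by
          have h1 := (P : Subgroup G).orderOf_dvd_natCard y.2
          rw [show Nat.card (P : Subgroup G) = 13 from hP] at h1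
          exact ((Nat.dvd_prime (Fact.out : Nat.Prime 13)).mp h1).resolve_left
            fun e1 => mem_nonOne.mp hy (orderOf_eq_one_iff.mp e1)
        have h1 := (Subgroup.centralizer ({(y : G)} : Set G)).card_mul_index
        rw [hcent _ hzp, hN] at h1
        rw [card_conjClass_eq_index]
        omega
      have h2 := omega_isIntegral ψ.2 (y : G)
      rw [omega, h.a_val ψ hψ y hy, hval, hclass] at h2
      obtain ⟨z, hz⟩ := isIntegral_rat_cast_imp
        (q := ((432 : ℕ) : ℚ) * a ψ / charDegree (ψ : G → ℂ)) (by push_cast; exact h2)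
      have hd0 : (charDegree (ψ : G → ℂ) : ℚ) ≠ 0 := Nat.cast_ne_zero.mpr (deg_pos ψ.2).ne'
      rw [eq_div_iff hd0] at hz
      have h3 : ((432 : ℕ) : ℤ) * a ψ = z * charDegree (ψ : G → ℂ) := by exact_mod_cast hz.symm
      have h4 := congrArg Int.natAbs h3
      rw [Int.natAbs_mul, Int.natAbs_mul, Int.natAbs_natCast, Int.natAbs_natCast] at h4
      refine ⟨z.natAbs, ?_⟩
      rw [Nat.mul_comm, ← h4]
      rcases h.a_sign ψ hψ with e1 | e1 <;> simp [e1]
    simp only [signed, List.mem_flatMap, List.mem_filter, decide_eq_true_eq]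
    refine ⟨charDegree (ψ : G → ℂ), ⟨DegreeSearch.mem_divs (by norm_num) hcl, hd1, hd2⟩, ?_, ?_⟩
    · rcases h.a_sign ψ hψ with e1 | e1 <;> simp [e1]
    · have h1 := (h.a_congr ψ hψ).mul_left (a ψ)
      rw [show a ψ * a ψ = 1 by rcases h.a_sign ψ hψ with e1 | e1 <;> simp [e1]] at h1
      exact h1
  have hsum : δ * (charDegree (θ : G → ℂ) : ℤ) = 1 + a χ * (charDegree (χ : G → ℂ) : ℤ) +
      a χ' * (charDegree (χ' : G → ℂ) : ℤ) := by
    have h1 := hrel 1 (by rw [orderOf_one]; norm_num)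
    simp only [hval] at h1
    exact_mod_cast h1
  have hcong : δ * (charDegree (θ : G → ℂ) : ℤ) % 13 = 3 := by
    have h1 := (h.congrY θ hθ).mul_left δ
    rw [show δ * (δ * ((3 : ℕ) : ℤ)) = 3 by rcases h.sign with e1 | e1 <;> simp [e1]] at h1
    exact h1
  have hsol := solve _ (hsigned χ hχX.1 hχX.2) _ (hsigned χ' hχ'X.1 hχ'X.2)
    (by rw [← hsum]; exact hcong) (by
      rw [← hsum]
      refine Int.emod_eq_zero_of_dvd ?_
      have h5 : ((charDegree (θ : G → ℂ) : ℕ) : ℤ) ∣ 5616 := by exact_mod_cast hdN θ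
      rcases h.sign with e1 | e1 <;> simp [e1, h5]) (by
      rw [← hsum]
      have h1 : ((1 + charDegree (χ : G → ℂ) ^ 2 + charDegree (χ' : G → ℂ) ^ 2 +
        4 * charDegree (θ : G → ℂ) ^ 2 : ℕ) : ℤ) ≤ ((5616 : ℕ) : ℤ) := by exact_mod_cast hsq
      push_cast at h1
      refine le_of_eq_of_le ?_ h1
      rcases h.sign with e1 | e1 <;> rcases h.a_sign χ hχX.1 with e2 | e2 <;>
        rcases h.a_sign χ' hχ'X.1 with e3 | e3 <;> rw [e1, e2, e3] <;> ring)
  -- name the characters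
  obtain ⟨χ₁, χ₂, h₁, h₂, e₁, e₂, hr⟩ : ∃ χ₁ χ₂ : IrrCharacter G, χ₁ ∈ X ∧ χ₂ ∈ X ∧
      a χ₁ * (charDegree (χ₁ : G → ℂ) : ℤ) = -12 ∧ a χ₂ * (charDegree (χ₂ : G → ℂ) : ℤ) = 27 ∧
      ∀ g : G, ¬ 13 ∣ orderOf g → (δ : ℂ) * (θ : G → ℂ) g =
        1 + (a χ₁ : ℂ) * (χ₁ : G → ℂ) g + (a χ₂ : ℂ) * (χ₂ : G → ℂ) g := by
    rcases hsol with ⟨e1, e2⟩ | ⟨e1, e2⟩
    · exact ⟨χ, χ', hχX.1, hχ'X.1, e1, e2, hrel⟩
    · exact ⟨χ', χ, hχ'X.1, hχX.1, e2, e1, fun g hg => by rw [hrel g hg]; ring⟩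
  have hθ16 : δ * (charDegree (θ : G → ℂ) : ℤ) = 16 := by
    rw [hsum]
    rcases hsol with ⟨e1, e2⟩ | ⟨e1, e2⟩ <;> rw [e1, e2] <;> norm_num
  have hd₁ : a χ₁ = -1 ∧ charDegree (χ₁ : G → ℂ) = 12 := by
    rcases h.a_sign χ₁ h₁ with e | e <;> rw [e] at e₁ <;> omega
  have hd₂ : a χ₂ = 1 ∧ charDegree (χ₂ : G → ℂ) = 27 := by
    rcases h.a_sign χ₂ h₂ with e | e <;> rw [e] at e₂ <;> omega
  have hdθ : δ = 1 ∧ charDegree (θ : G → ℂ) = 16 := by
    rcases h.sign with e | e <;> rw [e] at hθ16 <;> omega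
  refine ⟨hcent, fun ψ hψ => ?_, χ₁, χ₂, θ, hd₁.2, hd₂.2, hdθ.2, fun g hg => ?_⟩
  · by_cases hψX : ψ ∈ X
    · have hm : ψ ∈ ({χ, χ'} : Finset _) := hX ▸ Finset.mem_erase.mpr ⟨hψ, hψX⟩
      have key : ∀ c ∈ X, a c * (charDegree (c : G → ℂ) : ℤ) = -12 ∨
          a c * (charDegree (c : G → ℂ) : ℤ) = 27 → 12 ≤ charDegree (c : G → ℂ) := by
        intro c hc hor
        rcases h.a_sign c hc with e | e <;> rw [e] at hor <;> omega
      rcases Finset.mem_insert.mp hm with e | e
      · subst e; exact key _ hψX (hsol.imp And.left And.left)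
      · rw [Finset.mem_singleton] at e; subst e
        exact key _ hψX ((hsol.imp And.right And.right).symm)
    by_cases hψY : ψ ∈ Y
    · rw [hdegY ψ hψY, hdθ.2]; norm_num
    · have := Nat.le_of_dvd (deg_pos ψ.2) (hdvd ψ hψX hψY)
      exact le_trans (by norm_num) this
  · have := hr g hg
    rw [hd₁.1, hd₂.1, hdθ.1] at this
    push_cast at this
    linear_combination this

/-- No subgroup of index 16. -/
theorem index_ne_sixteen [IsSimpleGroup G] (hna : ¬ IsMulCommutative G) (hN : Nat.card G = 5616)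
    (D : Degrees G) (H : Subgroup G) : H.index ≠ 16 := by
  classical
  intro hH
  haveI := Fintype.ofFinite (G ⧸ H)
  set π := Perm.PermChar.permChar G (G ⧸ H) with hπ
  have hπc : IsCharacter G π := Perm.PermChar.isCharacter_permChar
  obtain ⟨m, hm⟩ := exists_decomposition hπc
  have hone : m oneChar = 1 := by
    have h1 := Perm.PermChar.inner_one (G := G) (Ω := G ⧸ H) ((1 : G) : G ⧸ H)
    rw [← hπ, hm] at h1
    have h2 := decomposition_coeff m rfl oneChar
    simp only [oneChar] at h2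
    rw [h1] at h2
    exact_mod_cast h2.symm
  have hval : ∀ χ : IrrCharacter G, (χ : G → ℂ) 1 = (charDegree (χ : G → ℂ) : ℂ) :=
    fun χ => char_one_eq_deg (irr_isCharacter χ.2)
  have hsum : 16 = ∑ ψ : IrrCharacter G, m ψ * charDegree (ψ : G → ℂ) := by
    have h1 : π 1 = (Nat.card (G ⧸ H) : ℂ) := by
      rw [hπ, Nat.card_eq_fintype_card]; simp [Perm.PermChar.permChar]
    rw [show Nat.card (G ⧸ H) = 16 from hH, hm] at h1
    simp only [Finset.sum_apply, Pi.smul_apply, nsmul_eq_mul, Pi.mul_apply, Pi.natCast_apply, hval] at h1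
    exact_mod_cast h1.symm
  rw [← Finset.add_sum_erase _ _ (Finset.mem_univ oneChar), hone, charDegree_oneChar] at hsum
  have hge : ∀ ψ ∈ (Finset.univ : Finset (IrrCharacter G)).erase oneChar,
      m ψ * charDegree (ψ : G → ℂ) ≤ 15 := fun ψ hψ => by
    have := Finset.single_le_sum (f := fun ψ => m ψ * charDegree (ψ : G → ℂ))
      (fun _ _ => Nat.zero_le _) hψ
    omega
  obtain ⟨ψ, hψ, hψm⟩ : ∃ ψ ∈ (Finset.univ : Finset (IrrCharacter G)).erase oneChar, m ψ ≠ 0 := by
    by_contra hall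
    push Not at hall
    rw [Finset.sum_eq_zero fun ψ hψ => by rw [hall ψ hψ, zero_mul]] at hsum
    omega
  rw [← Finset.add_sum_erase _ _ hψ] at hsum
  have hlow := D.low ψ (Finset.ne_of_mem_erase hψ)
  have h15 : m ψ * charDegree (ψ : G → ℂ) ≤ 15 := hge ψ hψ
  have hm1 : m ψ = 1 := by
    by_contra hm1
    have : 2 * 12 ≤ m ψ * charDegree (ψ : G → ℂ) := Nat.mul_le_mul (by omega) hlow
    omega
  rw [hm1, one_mul] at hsum h15
  have hrest : ∑ x ∈ ((Finset.univ : Finset (IrrCharacter G)).erase oneChar).erase ψ,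
      m x * charDegree (x : G → ℂ) = 0 := by
    refine Finset.sum_eq_zero fun x hx => ?_
    by_contra hx0
    have hmx : 1 ≤ m x := Nat.pos_of_ne_zero fun e => hx0 (by rw [e, zero_mul])
    have h12 : 1 * 12 ≤ m x * charDegree (x : G → ℂ) :=
      Nat.mul_le_mul hmx (D.low x (Finset.ne_of_mem_erase (Finset.mem_of_mem_erase hx)))
    have := Finset.single_le_sum (f := fun x => m x * charDegree (x : G → ℂ))
      (fun _ _ => Nat.zero_le _) hx
    omega
  rw [hrest] at hsum
  have hd : charDegree (ψ : G → ℂ) ∣ 5616 := by rw [← hN]; exact deg_dvd_card ψ.2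
  rw [show charDegree (ψ : G → ℂ) = 15 by omega] at hd
  norm_num at hd

/-- No involution centralises a subgroup of order 9. -/
theorem no_invol_nine [IsSimpleGroup G] (hna : ¬ IsMulCommutative G) (hN : Nat.card G = 5616)
    (hD : Degrees G) (D : Subgroup G) (h9 : Nat.card D = 9) (u : G) (hu : orderOf u = 2)
    (hc : ∀ d ∈ D, Commute u d) : False := by
  classical
  haveI : Fact (Nat.Prime 2) := ⟨Nat.prime_two⟩
  haveI : Fact (Nat.Prime 3) := ⟨Nat.prime_three⟩
  obtain ⟨hcent, -, χ₁, χ₂, θ, h12, h27, h16, hrel⟩ := hD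
  have hfac2 : (5616 : ℕ).factorization 2 = 4 := by
    rw [show (5616 : ℕ) = 2 ^ 4 * 351 from rfl, Nat.factorization_mul (by norm_num) (by norm_num), Finsupp.add_apply, Nat.Prime.factorization_pow Nat.prime_two, Finsupp.single_eq_same, Nat.factorization_eq_zero_of_not_dvd (by norm_num : ¬ 2 ∣ 351)]
  have hfac3 : (5616 : ℕ).factorization 3 = 3 := by
    rw [show (5616 : ℕ) = 3 ^ 3 * 208 from rfl, Nat.factorization_mul (by norm_num) (by norm_num), Finsupp.add_apply, Nat.Prime.factorization_pow Nat.prime_three, Finsupp.single_eq_same, Nat.factorization_eq_zero_of_not_dvd (by norm_num : ¬ 3 ∣ 208)]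
  have hθu : (θ : G → ℂ) u = 0 := by
    refine Small.SLnSt.vanish_singular (p := 2) θ ?_ (by rw [hu])
    rw [hN, hfac2, dexp, show deg (θ : G → ℂ) = 16 from h16, show (16 : ℕ) = 2 ^ 4 from rfl,
      Nat.Prime.factorization_pow Nat.prime_two, Finsupp.single_eq_same]
  have h3van : ∀ g : G, 3 ∣ orderOf g → (χ₂ : G → ℂ) g = 0 := by
    intro g hg
    refine Small.SLnSt.vanish_singular (p := 3) χ₂ ?_ hg
    rw [hN, hfac3, dexp, show deg (χ₂ : G → ℂ) = 27 from h27, show (27 : ℕ) = 3 ^ 3 from rfl,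
      Nat.Prime.factorization_pow Nat.prime_three, Finsupp.single_eq_same]
  have hne : ∀ χ : IrrCharacter G, charDegree (χ : G → ℂ) ≠ 1 → χ ≠ oneChar := fun χ h e =>
    h (by rw [e, charDegree_oneChar])
  obtain ⟨z₂, hz₂, -, hz₂lt⟩ := invol_value hna (hne χ₂ (by omega)) hu
  obtain ⟨z₁, hz₁, hz₁4, hz₁lt⟩ := invol_value hna (hne χ₁ (by omega)) hu
  rw [h12] at hz₁4 hz₁lt
  rw [h27] at hz₂lt
  have hreg : ¬ 13 ∣ orderOf u := by rw [hu]; norm_num
  have hz : (0 : ℤ) = 1 - z₁ + z₂ := by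
    have h1 := hrel u hreg
    rw [hθu, hz₁, hz₂] at h1
    exact_mod_cast h1
  -- the product with `D`
  let φ : Subgroup.zpowers u × D →* G :=
    MonoidHom.noncommCoprod (Subgroup.zpowers u).subtype D.subtype fun a d => by
      obtain ⟨i, hi⟩ := Subgroup.mem_zpowers_iff.1 a.2
      show Commute (a : G) (d : G)
      rw [← hi]
      exact (hc d d.2).zpow_left i
  have hφv : ∀ x : Subgroup.zpowers u × D, x.2 ≠ 1 → (χ₂ : G → ℂ) (φ x) = 0 := by
    intro x hx
    refine h3van _ ?_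
    have hcard : orderOf (x.2 : G) ∣ 9 := h9 ▸ D.orderOf_dvd_natCard x.2.2
    have hxo : orderOf (x.2 : G) ≠ 1 := fun e => hx (Subtype.ext (orderOf_eq_one_iff.mp e))
    have h1 : orderOf (x.1 : G) ∣ 2 := by
      have := (Subgroup.zpowers u).orderOf_dvd_natCard x.1.2
      rwa [Nat.card_zpowers, hu] at this
    have hcomm : Commute (x.1 : G) (x.2 : G) := by
      obtain ⟨i, hi⟩ := Subgroup.mem_zpowers_iff.1 x.1.2
      rw [← hi]; exact (hc x.2 x.2.2).zpow_left i
    have hcop : (orderOf (x.1 : G)).Coprime (orderOf (x.2 : G)) :=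
      Nat.Coprime.coprime_dvd_left h1 (Nat.Coprime.coprime_dvd_right hcard (by norm_num))
    show 3 ∣ orderOf ((x.1 : G) * (x.2 : G))
    rw [hcomm.orderOf_mul_eq_mul_orderOf_of_coprime hcop]
    refine Dvd.dvd.mul_left ?_ _
    obtain ⟨i, hi, hi'⟩ := (Nat.dvd_prime_pow Nat.prime_three).mp (show orderOf (x.2 : G) ∣ 3 ^ 2 from hcard)
    rw [hi'] at hxo ⊢
    exact dvd_pow_self 3 fun e => hxo (by rw [e, pow_zero])
  haveI := Fintype.ofFinite (Subgroup.zpowers u)
  haveI := Fintype.ofFinite D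
  obtain ⟨n, hn⟩ := classInner_natCast (isCharacter_comp φ (irr_isCharacter χ₂.2))
    (isCharacter_one (G := Subgroup.zpowers u × D))
  simp only [classInner, Function.comp_apply, map_one, mul_one, Fintype.sum_prod_type] at hn
  have hinner : ∀ a : Subgroup.zpowers u, ∑ d : D, (χ₂ : G → ℂ) (φ (a, d)) = (χ₂ : G → ℂ) (a : G) := by
    intro a
    rw [Finset.sum_eq_single (1 : D) (fun d _ hd => hφv (a, d) hd)
      (fun h => absurd (Finset.mem_univ _) h)]
    simp [φ]
  rw [Finset.sum_congr rfl fun a _ => hinner a] at hn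
  have hu1 : (⟨u, Subgroup.mem_zpowers u⟩ : Subgroup.zpowers u) ≠ 1 := fun e => by
    have : u = 1 := congrArg Subtype.val e
    rw [this, orderOf_one] at hu; omega
  have huniv : (Finset.univ : Finset (Subgroup.zpowers u)) = {1, ⟨u, Subgroup.mem_zpowers u⟩} := by
    refine (Finset.eq_of_subset_of_card_le (Finset.subset_univ _) ?_).symm
    rw [Finset.card_pair hu1.symm, Finset.card_univ, ← Nat.card_eq_fintype_card, Nat.card_zpowers, hu]
  rw [huniv, Finset.sum_pair hu1.symm, OneMemClass.coe_one, hz₂,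
    char_one_eq_deg (irr_isCharacter χ₂.2), show deg (χ₂ : G → ℂ) = 27 from h27, Nat.card_prod,
    Nat.card_zpowers, hu, h9, inv_mul_eq_iff_eq_mul₀ (by norm_num)] at hn
  have hn' : (27 : ℤ) + z₂ = 18 * n := by
    have : ((27 + z₂ : ℤ) : ℂ) = ((18 * n : ℤ) : ℂ) := by
      push_cast; norm_num at hn; linear_combination hn
    exact_mod_cast this
  have hvals : z₂ = -9 ∧ z₁ = -8 := by omega
  obtain ⟨rfl, rfl⟩ := hvals
  -- the centraliser
  set C := Subgroup.centralizer ({u} : Set G) with hCdef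
  have horth := Finset.sum_le_univ_sum_of_nonneg (s := ({oneChar, χ₁, χ₂} : Finset (IrrCharacter G)))
    (f := fun χ : IrrCharacter G => Complex.normSq ((χ : G → ℂ) u)) fun χ => Complex.normSq_nonneg _
  rw [sum_normSq_all, ← hCdef] at horth
  have hne12 : χ₁ ≠ χ₂ := fun e => by rw [e, h27] at h12; norm_num at h12
  rw [Finset.sum_insert (by
      simp only [Finset.mem_insert, Finset.mem_singleton, not_or]
      exact ⟨(hne χ₁ (by omega)).symm, (hne χ₂ (by omega)).symm⟩),
    Finset.sum_pair hne12, hz₁, hz₂, Complex.normSq_intCast, Complex.normSq_intCast] at horth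
  have horth' : 146 ≤ Nat.card C := by
    have : ((146 : ℕ) : ℝ) ≤ (Nat.card C : ℝ) := by
      refine le_trans (le_of_eq ?_) horth
      simp [oneChar]; norm_num
    exact_mod_cast this
  have hK : Nat.card {x : G // IsConj u x} * Nat.card C = 5616 := by
    rw [card_conjClass_eq_index, ← hCdef, Subgroup.index_mul_card, hN]
  have h3 : 3 ∣ Nat.card {x : G // IsConj u x} := by
    have h2 := omega_isIntegral χ₂.2 u
    rw [omega, hz₂, char_one_eq_deg (irr_isCharacter χ₂.2),
      show deg (χ₂ : G → ℂ) = 27 from h27] at h2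
    obtain ⟨w, hw⟩ := isIntegral_rat_cast_imp
      (q := (Nat.card {x : G // IsConj u x} : ℚ) * ((-9 : ℤ) : ℚ) / ((27 : ℕ) : ℚ))
      (by push_cast; push_cast at h2; exact h2)
    have h4 : (Nat.card {x : G // IsConj u x} : ℤ) * (-9) = w * 27 := by
      rw [eq_div_iff (by norm_num)] at hw
      exact_mod_cast hw.symm
    omega
  have h13 : ¬ 13 ∣ Nat.card C := fun hd => by
    haveI : Fact (Nat.Prime 13) := ⟨by norm_num⟩
    obtain ⟨w, hw⟩ := exists_prime_orderOf_dvd_card' 13 hd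
    have hwo : orderOf (w : G) = 13 := by rw [Subgroup.orderOf_coe, hw]
    have hmemu : u ∈ Subgroup.centralizer ({(w : G)} : Set G) :=
      Subgroup.mem_centralizer_singleton_iff.mpr (Subgroup.mem_centralizer_singleton_iff.mp w.2).symm
    have := (Subgroup.centralizer ({(w : G)} : Set G)).orderOf_dvd_natCard hmemu
    rw [hcent _ hwo, hu] at this
    norm_num at this
  have hp13 : Nat.Prime 13 := by norm_num
  obtain ⟨k, hk⟩ := h3
  rw [hk] at hK
  have h13k : 13 ∣ k := ((hp13.dvd_mul.mp ⟨144, by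
    calc k * Nat.card C = 1872 := by rw [mul_assoc] at hK; omega
      _ = 13 * 144 := by norm_num⟩)).resolve_right h13
  obtain ⟨l, hl⟩ := h13k
  rw [hl] at hK
  rcases Nat.eq_zero_or_pos l with e | e
  · rw [e] at hK; norm_num at hK
  have := Nat.mul_le_mul_left (3 * 13) (Nat.mul_le_mul e horth')
  rw [← mul_assoc, ← mul_assoc] at this
  rw [show 3 * (13 * l) = 3 * 13 * l by ring] at hK
  omega

end Cfsg.Agent.Char.SmallOrderGraph.ThreeThree
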