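import Cfsg.Agent.Lib.SSF.AutCard

/-!
# The action of a normaliser on an elementary abelian subgroup of order 9
-/

set_option autoImplicit false

namespace Cfsg.Agent.Char.SmallOrderGraph.ThreeThree

open Subgroup

universe u

abbrev GL23 := GL (Fin 2) (ZMod 3)

abbrev Mat := Matrix (Fin 2) (Fin 2) (ZMod 3)

/-- A matrix from its entries. -/
def ofEntries (a b c d : ZMod 3) : Mat := !![a, b; c, d]

/-- A word in two matrices equals minus one. -/
def hasNegOne (A B : Mat) : Bool :=
  decide ((A * B) ^ 2 = -1) || decide ((A * B) ^ 3 = -1) ||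
    decide ((A * B * B) ^ 2 = -1) || decide ((A * B * B) ^ 3 = -1)

/-- The entries. -/
def z3 : List (ZMod 3) := [0, 1, 2]

/-- The matrices whose cube is one. -/
def cubes : List Mat :=
  (z3.flatMap fun a => z3.flatMap fun b => z3.flatMap fun c => z3.map fun d =>
    ofEntries a b c d).filter fun M => decide (M ^ 3 = 1)

theorem mem_z3 : ∀ a : ZMod 3, a ∈ z3 := by decide +kernel

theorem mem_cubes {M : Mat} (h : M ^ 3 = 1) : M ∈ cubes := by
  simp only [cubes, List.mem_filter, decide_eq_true_eq, List.mem_flatMap, List.mem_map]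
  exact ⟨⟨_, mem_z3 (M 0 0), _, mem_z3 (M 0 1), _, mem_z3 (M 1 0), _, mem_z3 (M 1 1),
    (Matrix.eta_fin_two M).symm⟩, h⟩

/-- The check over all pairs. -/
def wordsCheck : Bool :=
  cubes.all fun A => decide (A = 1) || cubes.all fun B =>
    decide (B = 1) || decide (B = A) || decide (B = A * A) || hasNegOne A B

theorem words : wordsCheck = true := by decide +kernel

/-- Two elements of order 3 generating different subgroups generate minus the identity. -/
theorem neg_one_mem {H : Subgroup GL23} {A B : GL23} (hA : A ∈ H) (hB : B ∈ H) (hA3 : A ^ 3 = 1)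
    (hA1 : A ≠ 1) (hB3 : B ^ 3 = 1) (hne : B ∉ zpowers A) : ∃ Z ∈ H, (Z : Mat) = -1 := by
  have hA3' : (A : Mat) ^ 3 = 1 := by rw [← Units.val_pow_eq_pow_val, hA3, Units.val_one]
  have hB3' : (B : Mat) ^ 3 = 1 := by rw [← Units.val_pow_eq_pow_val, hB3, Units.val_one]
  have hA1' : (A : Mat) ≠ 1 := fun h => hA1 (Units.ext h)
  have h0 := words
  simp only [wordsCheck, List.all_eq_true, Bool.or_eq_true, decide_eq_true_eq] at h0
  have h := ((h0 _ (mem_cubes hA3')).resolve_left hA1') _ (mem_cubes hB3')
  rw [or_assoc, or_assoc] at h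
  rcases h with h | h | h | h
  · exact absurd (Units.ext h : B = 1) fun e1 => hne (e1 ▸ one_mem _)
  · exact absurd (Units.ext h : B = A) fun e1 => hne (e1 ▸ mem_zpowers A)
  · exact absurd (Units.ext (h.trans (Units.val_mul A A).symm) : B = A * A)
      fun e1 => hne (e1 ▸ mul_mem (mem_zpowers A) (mem_zpowers A))
  · simp only [hasNegOne, Bool.or_eq_true, decide_eq_true_eq] at h
    rcases h with ((h | h) | h) | h
    · exact ⟨_, pow_mem (mul_mem hA hB) 2, by rw [Units.val_pow_eq_pow_val, Units.val_mul]; exact h⟩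
    · exact ⟨_, pow_mem (mul_mem hA hB) 3, by rw [Units.val_pow_eq_pow_val, Units.val_mul]; exact h⟩
    · exact ⟨_, pow_mem (mul_mem (mul_mem hA hB) hB) 2, by
        rw [Units.val_pow_eq_pow_val, Units.val_mul, Units.val_mul]; exact h⟩
    · exact ⟨_, pow_mem (mul_mem (mul_mem hA hB) hB) 3, by
        rw [Units.val_pow_eq_pow_val, Units.val_mul, Units.val_mul]; exact h⟩

theorem card_gl23 : Nat.card GL23 = 48 := by
  rw [Matrix.card_GL_field, Fin.prod_univ_two, ZMod.card]; rfl

variable {G : Type u} [Group G] [Finite G]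

/-- The action on a subgroup of order 9 and exponent 3. -/
theorem exists_action (D : Subgroup G) (h9 : Nat.card D = 9) (h3 : ∀ x ∈ D, x ^ 3 = 1) :
    ∃ ψ : normalizer (D : Set G) →* GL23,
      ψ.ker = (centralizer (D : Set G)).subgroupOf (normalizer (D : Set G)) ∧
      ∀ g, (ψ g : Mat) = -1 → ∀ x ∈ D, (g : G) * x * (g : G)⁻¹ = x⁻¹ := by
  classical
  haveI : Fact (Nat.Prime 3) := ⟨Nat.prime_three⟩
  letI : CommGroup D :=
    { D.toGroup with
      mul_comm := (IsPGroup.isMulCommutative_of_card_eq_prime_sq (p := 3) (G := D) (by rw [h9]; norm_num)).is_comm.comm }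
  have hsmul : ∀ v : Additive D, (3 : ℕ) • v = 0 := fun v => by
    refine Additive.toMul.injective (Subtype.ext ?_)
    show ((v.toMul : D) ^ 3 : D).1 = (1 : D).1
    rw [Subgroup.coe_pow, Subgroup.coe_one]
    exact h3 _ v.toMul.2
  letI : Module (ZMod 3) (Additive D) := AddCommGroup.zmodModule hsmul
  haveI : Finite (Additive D) := Finite.of_equiv D Additive.ofMul
  haveI : Module.Finite (ZMod 3) (Additive D) := Module.Finite.of_finite
  have hfr : Module.finrank (ZMod 3) (Additive D) = 2 := by
    refine Nat.pow_right_injective (le_refl 2 |>.trans (by norm_num : 2 ≤ 3)) ?_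
    show 3 ^ _ = 3 ^ 2
    have h := Nat.card_congr (Module.finBasis (ZMod 3) (Additive D)).equivFun.toEquiv
    rw [Nat.card_fun, Nat.card_fin, Nat.card_zmod,
      ← Nat.card_congr (Additive.ofMul : D ≃ Additive D), h9] at h
    rw [← h]
  let b : Module.Basis (Fin 2) (ZMod 3) (Additive D) := Module.finBasisOfFinrankEq (ZMod 3) _ hfr
  let L : MulAut D →* LinearMap.GeneralLinearGroup (ZMod 3) (Additive D) :=
    MonoidHom.mk' (fun a => LinearMap.GeneralLinearGroup.ofLinearEquiv
      ((MulEquiv.toAdditive a).toLinearEquiv fun c v => ZMod.map_smul (MulEquiv.toAdditive a) c v))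
      fun a b => Units.ext (LinearMap.ext fun v => rfl)
  have hL : Function.Injective L := fun a a' h => MulEquiv.ext fun x => by
    have := LinearMap.congr_fun (congrArg Units.val h) (Additive.ofMul x)
    exact Additive.ofMul.injective this
  let e := Matrix.GeneralLinearGroup.toLin' b
  refine ⟨e.symm.toMonoidHom.comp (L.comp D.normalizerMonoidHom), ?_, ?_⟩
  · rw [← normalizerMonoidHom_ker]
    ext g
    simp only [MonoidHom.mem_ker, MonoidHom.comp_apply, MulEquiv.coe_toMonoidHom,
      MulEquiv.map_eq_one_iff]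
    exact ⟨fun h => hL (h.trans (map_one L).symm), fun h => by rw [h, map_one]⟩
  · intro g hg x hx
    have h1 : ((L (D.normalizerMonoidHom g) : LinearMap.GeneralLinearGroup (ZMod 3) (Additive D)) :
        Additive D →ₗ[ZMod 3] Additive D) = -1 := by
      have h2 : e (e.symm (L (D.normalizerMonoidHom g))) = L (D.normalizerMonoidHom g) :=
        e.apply_symm_apply _
      rw [← h2]
      change Matrix.toLin b b ((e.symm (L (D.normalizerMonoidHom g)) : GL23) : Mat) = -1
      simp only [MonoidHom.comp_apply, MulEquiv.coe_toMonoidHom] at hg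
      rw [hg, map_neg]
      congr 1
      exact Matrix.toLin_one b
    have h2 := LinearMap.congr_fun h1 (Additive.ofMul (⟨x, hx⟩ : D))
    exact congrArg (fun v : Additive D => (v.toMul : G)) h2

end Cfsg.Agent.Char.SmallOrderGraph.ThreeThree
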