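import Cfsg.Agent.Lib.Char.SmallOrderGraph.ThreeThree.Chars
import Cfsg.Agent.Lib.Char.SmallOrderGraph.ThreeThree.Plane
import Cfsg.Agent.Lib.Char.SmallOrderGraph.FiveLocal
import Cfsg.Agent.Lib.Lead.GLTwoThree.Plane
import Cfsg.Agent.S4226

/-!
# A simple group of order 5616 has an involution with centralizer `GL(2, 3)`
-/

set_option autoImplicit false

namespace Cfsg.Agent.Char.SmallOrderGraph.ThreeThree

open Cfsg Subgroup Cfsg.Agent.Small

universe u

variable {G : Type u} [Group G] [Finite G]

theorem adm_208 : ∀ n ∈ OrderSieve.adm 3 208, n = 4 ∨ n = 13 ∨ n = 16 ∨ n = 52 ∨ n = 208 := by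
  decide +kernel

theorem local_208 : ∀ j ∈ DegreeSearch.divs 208, OrderSieve.adm 3 j = [] ∨
    OrderSieve.small 5616 (208 / j) = true ∨ 208 / j = 16 ∨
    ((j = 4 ∨ j = 8 ∨ j = 16) ∧ (j = 8 → OrderSieve.adm 3 j = [4]) ∧
      (j = 4 → OrderSieve.adm 3 j = [4])) := by decide +kernel

/-- Sylow 3-subgroups are not self-normalising. -/
theorem normalizer_ne_self [IsSimpleGroup G] (hN : Nat.card G = 5616) [Fact (Nat.Prime 3)]
    (P : Sylow 3 G) (hP : Nat.card P = 27) :
    normalizer ((P : Subgroup G) : Set G) ≠ (P : Subgroup G) := by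
  intro hself
  have hsq : ∀ (T : Type u) [Group T] [Finite T], Nat.card T ∣ 3 ^ 2 → ∀ a b : T, a * b = b * a := by
    intro T _ _ hT a b
    obtain ⟨i, hi, hi'⟩ := (Nat.dvd_prime_pow Nat.prime_three).mp hT
    rcases (show i = 0 ∨ i = 1 ∨ i = 2 by omega) with rfl | rfl | rfl
    · haveI := (Nat.card_eq_one_iff_unique.mp (hi'.trans (pow_zero 3))).1
      exact Subsingleton.elim _ _
    · haveI : IsCyclic T := isCyclic_of_prime_card (p := 3) (hi'.trans (pow_one 3))
      exact IsCyclic.commutative.is_comm.comm a b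
    · exact (IsPGroup.isMulCommutative_of_card_eq_prime_sq (p := 3) hi').is_comm.comm a b
  have hclass : ∀ a b c : (P : Subgroup G), a * b * a⁻¹ * b⁻¹ * c = c * (a * b * a⁻¹ * b⁻¹) := by
    intro a b c
    haveI : Nontrivial (P : Subgroup G) := by
      rw [← Finite.one_lt_card_iff_nontrivial, show Nat.card (P : Subgroup G) = 27 from hP]; norm_num
    haveI := P.isPGroup'.center_nontrivial
    have hq : Nat.card ((P : Subgroup G) ⧸ center (P : Subgroup G)) ∣ 3 ^ 2 := by
      have h1 := card_eq_card_quotient_mul_card_subgroup (center (P : Subgroup G))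
      rw [show Nat.card (P : Subgroup G) = 27 from hP] at h1
      have h2 : 1 < Nat.card (center (P : Subgroup G)) := Finite.one_lt_card_iff_nontrivial.mpr inferInstance
      obtain ⟨i, hi, hi'⟩ := (Nat.dvd_prime_pow Nat.prime_three).mp
        (show Nat.card ((P : Subgroup G) ⧸ center (P : Subgroup G)) ∣ 3 ^ 3 from ⟨_, h1⟩)
      rw [hi'] at h1 ⊢
      refine pow_dvd_pow 3 ?_
      by_contra h3
      obtain rfl : i = 3 := by omega
      omega
    have hab := hsq _ hq (QuotientGroup.mk a) (QuotientGroup.mk b)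
    have hmem : a * b * a⁻¹ * b⁻¹ ∈ center (P : Subgroup G) := by
      rw [← QuotientGroup.eq_one_iff, QuotientGroup.mk_mul, QuotientGroup.mk_mul,
        QuotientGroup.mk_mul, hab, QuotientGroup.mk_inv, QuotientGroup.mk_inv,
        mul_inv_cancel_right, mul_inv_cancel]
    exact (mem_center_iff.mp hmem c).symm
  have hcl : (P : Subgroup G).lowerCentralSeries (3 - 1) = ⊥ := by
    rw [show (3 : ℕ) - 1 = 1 + 1 from rfl, Subgroup.lowerCentralSeries_succ,
      commutator_eq_bot_iff_le_centralizer, Subgroup.lowerCentralSeries_succ,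
      Subgroup.lowerCentralSeries_zero, commutator_le]
    intro a ha b hb
    rw [mem_centralizer_iff]
    intro c hc
    rw [commutatorElement_def]
    exact (congrArg Subtype.val (hclass ⟨a, ha⟩ ⟨b, hb⟩ ⟨c, hc⟩)).symm
  have h := S4226.result P hcl
  haveI : Fact (Nat.Prime 13) := ⟨by norm_num⟩
  have hres : Cfsg.pResidual 3 G = ⊤ := by
    haveI hnormal : (Cfsg.pResidual 3 G).Normal := by
      refine ⟨fun n hn g => ?_⟩
      have hle : Cfsg.pResidual 3 G ≤ (Cfsg.pResidual 3 G).comap (MulAut.conj g).toMonoidHom := by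
        refine (closure_le _).mpr fun x hx => subset_closure ?_
        show (orderOf (MulAut.conj g x)).Coprime 3
        rw [MulEquiv.orderOf_eq]; exact hx
      exact hle hn
    refine (IsSimpleGroup.eq_bot_or_eq_top_of_normal _ hnormal).resolve_left fun hb => ?_
    obtain ⟨w, hw⟩ := exists_prime_orderOf_dvd_card' (G := G) 13 (by rw [hN]; norm_num)
    have h1 : w ∈ Cfsg.pResidual 3 G :=
      subset_closure (show (orderOf w).Coprime 3 by rw [hw]; norm_num)
    rw [hb, mem_bot] at h1
    rw [h1, orderOf_one] at hw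
    norm_num at hw
  rw [hres, top_inf_eq] at h
  have h0 : Cfsg.pResidualOf 3 (normalizer ((P : Subgroup G) : Set G)) = ⊥ := by
    rw [Cfsg.pResidualOf, Subgroup.map_eq_bot_iff, ker_subtype]
    refine (closure_le _).mpr fun x hx => ?_
    have hxP : (x : G) ∈ (P : Subgroup G) := (SetLike.ext_iff.mp hself _).mp x.2
    have h1 := (P : Subgroup G).orderOf_dvd_natCard hxP
    rw [show Nat.card (P : Subgroup G) = 27 from hP] at h1
    have h2 : orderOf (x : G) = 1 := by
      have hx' : (orderOf x).Coprime 3 := hx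
      rw [← orderOf_coe] at hx'
      exact Nat.eq_one_of_dvd_coprimes ((hx'.pow_right 3 : (orderOf (x : G)).Coprime (3 ^ 3)))
        dvd_rfl h1
    exact Subtype.ext (orderOf_eq_one_iff.mp h2)
  rw [h0, hself] at h
  rw [← h, card_bot] at hP
  norm_num at hP

theorem neg_one_ne_one : (-1 : Mat) ≠ 1 := by decide +kernel

/-- An involution whose centralizer is `GL(2, 3)`. -/
theorem exists_involution [IsSimpleGroup G] (hna : ¬ IsMulCommutative G)
    (hN : Nat.card G = 5616) :
    ∃ u : G, orderOf u = 2 ∧ Nonempty (centralizer ({u} : Set G) ≃* GL23) := by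
  classical
  haveI := Fintype.ofFinite G
  haveI : Fact (Nat.Prime 2) := ⟨Nat.prime_two⟩
  haveI : Fact (Nat.Prime 3) := ⟨Nat.prime_three⟩
  have hD := degrees hna hN
  have hG : Nat.card G = 3 ^ 3 * 208 := by rw [hN]; rfl
  have hcard : ∀ R : Sylow 3 G, Nat.card R = 27 := fun R => by
    rw [SmallOrders.sylow_card_eq hG (by norm_num) R]; rfl
  obtain ⟨P⟩ := (inferInstance : Nonempty (Sylow 3 G))
  obtain ⟨hn1, hn2, hn3⟩ := SmallOrders.sylow_number P
    (SmallOrders.sylow_card_eq hG (by norm_num) P) three_pos hG (by norm_num)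
  have hidx : (normalizer ((P : Subgroup G) : Set G)).index = Nat.card (Sylow 3 G) :=
    (Sylow.card_eq_index_normalizer P).symm
  have hn : Nat.card (Sylow 3 G) = 13 ∨ Nat.card (Sylow 3 G) = 52 := by
    have hmem : Nat.card (Sylow 3 G) ∈ OrderSieve.adm 3 208 := by
      simp only [OrderSieve.adm, List.mem_filter, decide_eq_true_eq]
      exact ⟨DegreeSearch.mem_divs (by norm_num) hn1, hn2, hn3⟩
    rcases adm_208 _ hmem with h | h | h | h | h
    · exfalso
      refine OrderSieve.false_of_small hna (normalizer ((P : Subgroup G) : Set G))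
        (fun e1 => hn3 (by rw [← hidx, e1, index_top])) ?_
      rw [hN, hidx, h]; decide +kernel
    · exact Or.inl h
    · exact (index_ne_sixteen hna hN hD _ (hidx.trans h)).elim
    · exact Or.inr h
    · exfalso
      refine normalizer_ne_self hN P (hcard P) (eq_of_le_of_card_ge le_normalizer ?_).symm
      have h1 := SmallOrders.card_normalizer P
      rw [h, hN] at h1
      rw [show Nat.card (P : Subgroup G) = 27 from hcard P]
      omega
  obtain ⟨Q, hQP, hrel⟩ := OrderSieve.exists_inter (k := 3)
    (fun R => SmallOrders.sylow_card_eq hG (by norm_num) R)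
    (by rcases hn with h | h <;> rw [h] <;> norm_num) P
  set D := (P : Subgroup G) ⊓ (Q : Subgroup G) with hDdef
  have hD9 : Nat.card D = 9 := by
    have h0 := (D.subgroupOf (P : Subgroup G)).card_mul_index
    rw [Nat.card_congr (subgroupOfEquivOfLe (inf_le_left : D ≤ P)).toEquiv,
      show (D.subgroupOf (P : Subgroup G)).index = 3 from hrel,
      show Nat.card (P : Subgroup G) = 27 from hcard P] at h0
    exact Nat.eq_of_mul_eq_mul_right (m := 3) (by norm_num) (h0.trans (by norm_num))
  set H := normalizer (D : Set G) with hH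
  have hle : ∀ R : Sylow 3 G, D ≤ (R : Subgroup G) → (R : Subgroup G) ≤ H := by
    intro R hR
    rw [hH, ← normal_subgroupOf_iff_le_normalizer hR]
    refine normal_of_index_eq_minFac_card ?_
    have h2 := (D.subgroupOf (R : Subgroup G)).card_mul_index
    rw [Nat.card_congr (subgroupOfEquivOfLe hR).toEquiv, hD9,
      show Nat.card (R : Subgroup G) = 27 from hcard R] at h2
    rw [show Nat.card (R : Subgroup G) = 27 from hcard R, show (27 : ℕ) = 3 ^ 3 from rfl,
      Nat.prime_three.pow_minFac (by norm_num)]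
    omega
  have hPH := hle P inf_le_left
  have hQH := hle Q inf_le_right
  have hne : H ≠ ⊤ := fun htop => by
    haveI : D.Normal := normalizer_eq_top_iff.mp htop
    rcases IsSimpleGroup.eq_bot_or_eq_top_of_normal D inferInstance with e | e
    · rw [e, card_bot] at hD9; norm_num at hD9
    · rw [e, card_top, hN] at hD9; omega
  obtain ⟨j, hj⟩ : 27 ∣ Nat.card H := by
    have := card_dvd_of_le hPH
    rwa [show Nat.card (P : Subgroup G) = 27 from hcard P] at this
  have hjm : j * H.index = 208 := by
    have h2 := H.card_mul_index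
    rw [hj, hN, mul_assoc] at h2
    omega
  have hj0 : 0 < j := Nat.pos_of_ne_zero (by rintro rfl; simp at hjm)
  have hmemj : Nat.card (Sylow 3 H) ∈ OrderSieve.adm 3 j := by
    simp only [OrderSieve.adm, List.mem_filter, decide_eq_true_eq]
    refine ⟨DegreeSearch.mem_divs (by omega) ?_, by rw [card_sylow_modEq_one 3 H], fun h1 => ?_⟩
    · have h3 := ((P.subtype hPH : Sylow 3 H) : Subgroup H).card_mul_index
      rw [Sylow.coe_subtype, Nat.card_congr (subgroupOfEquivOfLe hPH).toEquiv,
        show Nat.card (P : Subgroup G) = 27 from hcard P, hj] at h3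
      have h4 := (P.subtype hPH).card_dvd_index
      rw [Sylow.coe_subtype] at h4
      rwa [Nat.eq_of_mul_eq_mul_left (by norm_num) h3] at h4
    · haveI := (Nat.card_eq_one_iff_unique.mp h1).1
      exact hQP (Sylow.subtype_injective (hP := hQH) (hQ := hPH) (Subsingleton.elim _ _))
  obtain ⟨hj3, hj8, hj4⟩ : (j = 4 ∨ j = 8 ∨ j = 16) ∧ (j = 8 → OrderSieve.adm 3 j = [4]) ∧
      (j = 4 → OrderSieve.adm 3 j = [4]) := by
    have hidxH : H.index = 208 / j := by rw [← hjm, Nat.mul_div_cancel_left _ hj0]
    rcases local_208 j (DegreeSearch.mem_divs (by norm_num) ⟨_, hjm.symm⟩) with h | h | h | h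
    · rw [h] at hmemj; simp at hmemj
    · refine (OrderSieve.false_of_small hna H hne ?_).elim
      rw [hN, hidxH]; exact h
    · exact (index_ne_sixteen hna hN hD H (hidxH.trans h)).elim
    · exact h
  -- the centraliser of `D`
  have hDc : ∀ a ∈ D, ∀ b ∈ D, a * b = b * a := fun a ha b hb => congrArg Subtype.val
    ((IsPGroup.isMulCommutative_of_card_eq_prime_sq (p := 3) (G := D)
      (by rw [hD9]; norm_num)).is_comm.comm ⟨a, ha⟩ ⟨b, hb⟩)
  have hCH : centralizer (D : Set G) ≤ H := centralizer_le_normalizer _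
  have hDC : D ≤ centralizer (D : Set G) := fun a ha =>
    mem_centralizer_iff.mpr fun b hb => hDc b hb a ha
  have hC : centralizer (D : Set G) = D := by
    have hdvd : Nat.card (centralizer (D : Set G)) ∣ 27 * j := hj ▸ card_dvd_of_le hCH
    have hodd : ¬ 2 ∣ Nat.card (centralizer (D : Set G)) := fun h2 => by
      obtain ⟨v, hv⟩ := exists_prime_orderOf_dvd_card' 2 h2
      exact no_invol_nine hna hN hD D hD9 v (by rw [Subgroup.orderOf_coe, hv])
        fun d hd => (mem_centralizer_iff.mp v.2 d hd).symm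
    have h27 : Nat.card (centralizer (D : Set G)) ∣ 3 ^ 3 := by
      refine Nat.Coprime.dvd_of_dvd_mul_right ?_ hdvd
      refine Nat.Coprime.coprime_dvd_right (show j ∣ 2 ^ 4 by rcases hj3 with e | e | e <;> rw [e] <;> norm_num) ?_
      exact ((Nat.prime_two.coprime_iff_not_dvd.mpr hodd).symm).pow_right 4
    obtain ⟨i, hi, hi'⟩ := (Nat.dvd_prime_pow Nat.prime_three).mp h27
    have hp : IsPGroup 3 (centralizer (D : Set G)) := IsPGroup.of_card hi'
    have key : ∀ R : Sylow 3 G, (R : Subgroup G) ≤ H → centralizer (D : Set G) ≤ (R : Subgroup G) := by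
      intro R hR
      have hn : (R : Subgroup G) ≤ normalizer (centralizer (D : Set G) : Set G) := fun r hr => by
        refine mem_normalizer_fintype fun c hc => ?_
        rw [SetLike.mem_coe] at hc ⊢
        rw [mem_centralizer_iff] at hc ⊢
        intro d hd
        have hd' : r⁻¹ * d * r ∈ D := (mem_normalizer_iff''.mp (hR hr) d).mp hd
        have := hc _ hd'
        calc d * (r * c * r⁻¹) = r * ((r⁻¹ * d * r) * c) * r⁻¹ := by group
          _ = r * (c * (r⁻¹ * d * r)) * r⁻¹ := by rw [this]
          _ = r * c * r⁻¹ * d := by group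
      have hsup := R.isPGroup'.to_sup_of_normal_right' hp hn
      exact le_sup_right.trans (le_of_eq (R.is_maximal' hsup le_sup_left))
    exact le_antisymm (le_inf (key P hPH) (key Q hQH)) hDC
  -- elementary
  have hexp : ∀ x ∈ D, x ^ 3 = 1 := by
    intro x hx
    by_contra hx3
    haveI : IsCyclic D := by
      refine isCyclic_of_orderOf_eq_card (⟨x, hx⟩ : D) ?_
      have h1 : orderOf (⟨x, hx⟩ : D) ∣ 3 ^ 2 := by
        have := orderOf_dvd_natCard (⟨x, hx⟩ : D)
        rwa [hD9] at this
      obtain ⟨i, hi, hi'⟩ := (Nat.dvd_prime_pow Nat.prime_three).mp h1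
      rw [hD9, hi']
      rcases (show i ≤ 1 ∨ i = 2 by omega) with h | h
      · exfalso
        refine hx3 ?_
        rw [← orderOf_dvd_iff_pow_eq_one, ← Subgroup.orderOf_mk (H := D) x hx, hi']
        exact (pow_dvd_pow 3 h).trans (by norm_num)
      · rw [h]; norm_num
    have hk : D.normalizerMonoidHom.ker = D.subgroupOf H := by
      rw [normalizerMonoidHom_ker, hC]
    have h1 := (D.subgroupOf H).card_mul_index
    rw [Nat.card_congr (subgroupOfEquivOfLe (hDC.trans hCH)).toEquiv, hD9, hj] at h1
    have h2 : (D.subgroupOf H).index ∣ 6 := by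
      rw [← hk, index_ker]
      refine (card_subgroup_dvd_card _).trans ?_
      rw [IsCyclic.card_mulAut, hD9]
      decide
    have := Nat.le_of_dvd (by norm_num) h2
    omega
  obtain ⟨ψ, hker, hinv⟩ := exists_action D hD9 hexp
  have hker' : ∀ g : H, ψ g = 1 ↔ (g : G) ∈ D := fun g => by
    rw [← MonoidHom.mem_ker, hker, hC, mem_subgroupOf]
  -- elements outside `D`
  obtain ⟨x, hxP, hxD⟩ : ∃ x ∈ (P : Subgroup G), x ∉ D := by
    refine SetLike.not_le_iff_exists.mp fun hle' => ?_
    have := card_dvd_of_le hle'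
    rw [show Nat.card (P : Subgroup G) = 27 from hcard P, hD9] at this
    norm_num at this
  obtain ⟨y, hyQ, hyD⟩ : ∃ y ∈ (Q : Subgroup G), y ∉ D := by
    refine SetLike.not_le_iff_exists.mp fun hle' => ?_
    have := card_dvd_of_le hle'
    rw [show Nat.card (Q : Subgroup G) = 27 from hcard Q, hD9] at this
    norm_num at this
  have hcube : ∀ R : Sylow 3 G, D ≤ (R : Subgroup G) → ∀ r (hr : r ∈ (R : Subgroup G)) (hrH : r ∈ H),
      ψ ⟨r, hrH⟩ ^ 3 = 1 := by
    intro R hR r hr hrH
    rw [← map_pow, hker']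
    haveI : (D.subgroupOf (R : Subgroup G)).Normal :=
      (normal_subgroupOf_iff_le_normalizer hR).mpr (hle R hR)
    have h1 := (D.subgroupOf (R : Subgroup G)).pow_index_mem ⟨r, hr⟩
    have h2 := (D.subgroupOf (R : Subgroup G)).card_mul_index
    rw [Nat.card_congr (subgroupOfEquivOfLe hR).toEquiv, hD9,
      show Nat.card (R : Subgroup G) = 27 from hcard R] at h2
    rw [show (D.subgroupOf (R : Subgroup G)).index = 3 by omega, mem_subgroupOf] at h1
    exact h1
  obtain ⟨Z, hZ, hZ1⟩ := neg_one_mem (H := ψ.range) (A := ψ ⟨x, hPH hxP⟩) (B := ψ ⟨y, hQH hyQ⟩)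
    ⟨_, rfl⟩ ⟨_, rfl⟩ (hcube P inf_le_left x hxP _) (fun e => hxD ((hker' _).mp e))
    (hcube Q inf_le_right y hyQ _) (fun hmem => by
      obtain ⟨i, hi⟩ := mem_zpowers_iff.mp hmem
      rw [← map_zpow, eq_comm, ← mul_inv_eq_one, ← map_inv, ← map_mul, hker'] at hi
      refine hyD ⟨?_, hyQ⟩
      have h1 := (inf_le_left : D ≤ (P : Subgroup G)) hi
      have h2 := mul_mem h1 (zpow_mem hxP i)
      show y ∈ (P : Subgroup G)
      simpa [mul_assoc] using h2)
  obtain ⟨z, rfl⟩ := hZ
  -- the involution
  set v : H := z ^ 9 with hv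
  have hvψ : (ψ v : Mat) = -1 := by
    rw [hv, map_pow, Units.val_pow_eq_pow_val, hZ1]
    exact Odd.neg_one_pow ⟨4, rfl⟩
  have hne1 := neg_one_ne_one
  set u : G := (v : G) with hudef
  have hu : orderOf u = 2 := by
    refine orderOf_eq_prime ?_ fun e => hne1 ?_
    · have hz2 : (((z ^ 2 : H)) : G) ∈ D := by
        rw [← hker', map_pow]
        refine Units.ext ?_
        rw [Units.val_pow_eq_pow_val, hZ1, Units.val_one]
        exact Even.neg_one_pow even_two
      have h1 := D.orderOf_dvd_natCard hz2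
      rw [hD9, orderOf_dvd_iff_pow_eq_one] at h1
      rw [hudef, hv, SubmonoidClass.coe_pow, ← pow_mul, mul_comm, pow_mul]
      simpa using h1
    · rw [← hvψ, show v = 1 from Subtype.ext e, map_one, Units.val_one]
  have huinv : ∀ d ∈ D, u * d * u⁻¹ = d⁻¹ := hinv v hvψ
  have hucomm : ∀ g : H, u * (g : G) * u⁻¹ * (g : G)⁻¹ ∈ D := fun g => by
    have h1 : ψ (v * g * v⁻¹ * g⁻¹) = 1 := by
      rw [map_mul, map_mul, map_mul, map_inv, map_inv]
      have hc : ψ v * ψ g = ψ g * ψ v := Units.ext (by
        rw [Units.val_mul, Units.val_mul, hvψ, neg_one_mul, mul_neg_one])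
      rw [hc, mul_inv_cancel_right, mul_inv_cancel]
    exact (hker' _).mp h1
  have huN : u ∈ normalizer ((P : Subgroup G) : Set G) := by
    refine mem_normalizer_fintype fun p hp => ?_
    have h1 := (inf_le_left : D ≤ (P : Subgroup G)) (hucomm ⟨p, hPH hp⟩)
    have h2 := mul_mem h1 hp
    show u * p * u⁻¹ ∈ (P : Subgroup G)
    simpa [mul_assoc] using h2
  set NH : Subgroup G := normalizer ((P : Subgroup G) : Set G) ⊓ H with hNH
  have huNH : u ∈ NH := ⟨huN, v.2⟩
  have hNHcard : Nat.card (Sylow 3 H) * Nat.card NH = 27 * j := by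
    have h5 := SmallOrders.card_normalizer (P.subtype hPH)
    have hN' : normalizer ((((P.subtype hPH : Sylow 3 H) : Subgroup H)) : Set H) =
        (normalizer ((P : Subgroup G) : Set G)).subgroupOf H := by
      rw [Sylow.coe_subtype]
      ext g
      rw [mem_subgroupOf, mem_normalizer_iff, mem_normalizer_iff]
      constructor
      · intro hg c
        constructor
        · intro hc
          exact (hg ⟨c, hPH hc⟩).mp hc
        · intro hc
          have hcH : c ∈ H := by
            have e : c = (g : G)⁻¹ * ((g : G) * c * (g : G)⁻¹) * (g : G) := by group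
            rw [e]
            exact mul_mem (mul_mem (inv_mem g.2) (hPH hc)) g.2
          exact (hg ⟨c, hcH⟩).mpr hc
      · intro hg c
        exact hg c.1
    rw [hN', hj] at h5
    rw [← h5]
    congr 1
    rw [← inf_subgroupOf_right]
    exact (Nat.card_congr (subgroupOfEquivOfLe inf_le_right).toEquiv).symm
  have hu2 : 2 ∣ Nat.card NH := hu ▸ NH.orderOf_dvd_natCard huNH
  rcases hj3 with hj' | hj' | hj'
  · exfalso
    rw [hj4 hj', List.mem_singleton] at hmemj
    rw [hmemj] at hNHcard
    omega
  · exfalso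
    rw [hj8 hj', List.mem_singleton] at hmemj
    have hNH54 : Nat.card NH = 54 := by rw [hmemj] at hNHcard; omega
    set N := normalizer ((P : Subgroup G) : Set G) with hNdef
    have hN4 : 4 ∣ Nat.card N := by
      have h1 := SmallOrders.card_normalizer P
      rw [hN] at h1
      rcases hn with h | h <;> rw [h] at h1
      · exact ⟨108, Nat.eq_of_mul_eq_mul_left (by norm_num : 0 < 13) (h1.trans (by norm_num))⟩
      · exact ⟨27, Nat.eq_of_mul_eq_mul_left (by norm_num : 0 < 52) (h1.trans (by norm_num))⟩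
    have hp2 : IsPGroup 2 (zpowers (⟨u, huN⟩ : N)) :=
      IsPGroup.of_card (n := 1) (by rw [Nat.card_zpowers, Subgroup.orderOf_mk, hu, pow_one])
    obtain ⟨T, hT⟩ := hp2.exists_le_sylow
    have huT : (⟨u, huN⟩ : N) ∈ (T : Subgroup N) := hT (mem_zpowers _)
    have hT4 : 4 ∣ Nat.card (T : Subgroup N) :=
      T.pow_dvd_card_of_pow_dvd_card (n := 2) hN4
    set w : (T : Subgroup N) := ⟨⟨u, huN⟩, huT⟩ with hw
    have hwo : orderOf w = 2 := by
      rw [hw, Subgroup.orderOf_mk, Subgroup.orderOf_mk, hu]
    obtain ⟨g, hg, hgc⟩ : ∃ g : (T : Subgroup N), g ∉ zpowers w ∧ g * w = w * g := by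
      by_cases hwc : w ∈ center (T : Subgroup N)
      · obtain ⟨g, -, hg⟩ := SetLike.not_le_iff_exists.mp (show ¬ (⊤ : Subgroup (T : Subgroup N)) ≤ zpowers w from fun h => by
          have := card_dvd_of_le h
          rw [card_top, Nat.card_zpowers, hwo] at this
          have := hT4.trans this
          norm_num at this)
        exact ⟨g, hg, mem_center_iff.mp hwc g⟩
      · haveI : Nontrivial (T : Subgroup N) := by
          rw [← Finite.one_lt_card_iff_nontrivial]
          exact lt_of_lt_of_le (by norm_num) (Nat.le_of_dvd Nat.card_pos hT4)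
        haveI := T.isPGroup'.center_nontrivial
        obtain ⟨g, hg1⟩ := exists_ne (1 : center (T : Subgroup N))
        refine ⟨g, fun hmem => hwc ?_, (mem_center_iff.mp g.2 w).symm⟩
        have hle' : zpowers (g : (T : Subgroup N)) ≤ zpowers w := zpowers_le.mpr hmem
        have heq : zpowers (g : (T : Subgroup N)) = zpowers w := by
          refine eq_of_le_of_card_ge hle' ?_
          rw [Nat.card_zpowers w, hwo]
          exact Finite.one_lt_card_iff_nontrivial.mpr ((Subgroup.nontrivial_iff_ne_bot _).mpr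
            fun e => hg1 (Subtype.ext (zpowers_eq_bot.mp e)))
        exact (zpowers_le.mpr g.2 : zpowers (g : (T : Subgroup N)) ≤ center _) (heq ▸ mem_zpowers w)
    set g' : G := ((g : N) : G) with hg'
    have hgu : g' * u = u * g' := congrArg (fun a : (T : Subgroup N) => ((a : N) : G)) hgc
    have hgH : g' ∈ H := by
      refine mem_normalizer_fintype fun d hd => ?_
      rw [SetLike.mem_coe] at hd ⊢
      set c := g' * d * g'⁻¹
      have hcP : c ∈ (P : Subgroup G) :=
        (mem_normalizer_iff.mp (g : N).2 d).mp ((inf_le_left : D ≤ (P : Subgroup G)) hd)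
      have h1 := hucomm ⟨c, hPH hcP⟩
      have h2 : u * c * u⁻¹ = c⁻¹ := by
        calc u * c * u⁻¹ = (u * g') * d * (u * g')⁻¹ := by simp only [c]; group
          _ = g' * (u * d * u⁻¹) * g'⁻¹ := by rw [← hgu]; group
          _ = c⁻¹ := by rw [huinv d hd]; simp only [c]; group
      have h3 : c⁻¹ * c⁻¹ ∈ D := by simpa [h2] using h1
      have h4 : c ^ 3 = 1 := by simp only [c]; rw [conj_pow, hexp d hd, mul_one, mul_inv_cancel]
      have h5 : c⁻¹ * c⁻¹ = c := by
        rw [← mul_inv_rev, inv_eq_iff_mul_eq_one, ← pow_two, ← pow_succ]; exact h4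
      rwa [h5] at h3
    let f : (T : Subgroup N) →* G := N.subtype.comp (T : Subgroup N).subtype
    have hf : Function.Injective f := N.subtype_injective.comp (T : Subgroup N).subtype_injective
    set S : Subgroup (T : Subgroup N) := NH.comap f with hS
    have hwS : zpowers w ≤ S := zpowers_le.mpr (show f w ∈ NH from huNH)
    have hgS : g ∈ S := show f g ∈ NH from ⟨(g : N).2, hgH⟩
    have hS54 : Nat.card S ∣ 54 := by
      rw [← hNH54, show Nat.card S = Nat.card (S.map f) from (card_map_of_injective hf).symm]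
      exact card_dvd_of_le (map_comap_le _ _)
    obtain ⟨k, hk⟩ := IsPGroup.iff_card.mp (T.isPGroup'.to_subgroup S)
    have hk1 : k ≤ 1 := by
      by_contra hk1
      have : 2 ^ 2 ∣ 54 := (pow_dvd_pow 2 (by omega : 2 ≤ k)).trans (hk ▸ hS54)
      norm_num at this
    have : zpowers w = S := by
      refine eq_of_le_of_card_ge hwS ?_
      rw [hk, Nat.card_zpowers, hwo]
      calc 2 ^ k ≤ 2 ^ 1 := Nat.pow_le_pow_right two_pos hk1
        _ = 2 := rfl
    exact hg (this ▸ hgS)
  -- the surjective case
  have hsurj : Function.Surjective ψ := by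
    have h1 := card_eq_card_quotient_mul_card_subgroup ψ.ker
    rw [Nat.card_congr (QuotientGroup.quotientKerEquivRange ψ).toEquiv, hker, hC,
      Nat.card_congr (subgroupOfEquivOfLe (hDC.trans hCH)).toEquiv, hD9, hj, hj'] at h1
    rw [← MonoidHom.range_eq_top]
    refine eq_top_of_le_card _ ?_
    rw [card_gl23]
    omega
  set CH : Subgroup H := centralizer ({v} : Set H) with hCHdef
  let θ : CH →* GL23 := ψ.comp CH.subtype
  have hθ : Function.Bijective θ := by
    refine ⟨(injective_iff_map_eq_one θ).mpr fun c hc => ?_, fun A => ?_⟩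
    · have hcD : ((c : H) : G) ∈ D := (hker' _).mp hc
      have h1 := huinv _ hcD
      have h2 : u * ((c : H) : G) * u⁻¹ = ((c : H) : G) := by
        have := congrArg (fun a : H => (a : G)) (mem_centralizer_singleton_iff.mp c.2)
        simp only [Subgroup.coe_mul] at this
        rw [hudef, ← this, mul_inv_cancel_right]
      have h3 := hexp _ hcD
      rw [h2, eq_inv_iff_mul_eq_one] at h1
      have h4 : ((c : H) : G) = 1 := by rwa [pow_succ, pow_two, h1, one_mul] at h3
      exact Subtype.ext (Subtype.ext h4)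
    · obtain ⟨g, rfl⟩ := hsurj A
      have hd := hucomm g
      set d := u * (g : G) * u⁻¹ * (g : G)⁻¹ with hddef
      have hd3 := hexp d hd
      let e : H := ⟨d⁻¹, (hDC.trans hCH) (inv_mem hd)⟩
      refine ⟨⟨e * g, ?_⟩, ?_⟩
      · rw [hCHdef, mem_centralizer_singleton_iff]
        refine Subtype.ext ?_
        show d⁻¹ * (g : G) * u = u * (d⁻¹ * (g : G))
        have h1 : u * (g : G) = d * (g : G) * u := by rw [hddef]; group
        have h2 := huinv _ (inv_mem hd)
        rw [inv_inv] at h2
        have h3 : u * d⁻¹ = d * u := mul_inv_eq_iff_eq_mul.mp h2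
        have h4 : d * d = d⁻¹ := by
          rw [eq_inv_iff_mul_eq_one, ← pow_two, ← pow_succ]; exact hd3
        calc d⁻¹ * (g : G) * u = d * d * (g : G) * u := by rw [h4]
          _ = d * (u * (g : G)) := by rw [h1]; group
          _ = u * d⁻¹ * (g : G) := by rw [h3]; group
          _ = u * (d⁻¹ * (g : G)) := mul_assoc _ _ _
      · show ψ (e * g) = ψ g
        rw [map_mul, (hker' e).mpr (inv_mem hd), one_mul]
  have hCH48 : Nat.card CH = 48 := by rw [Nat.card_congr (Equiv.ofBijective θ hθ), card_gl23]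
  set C := centralizer ({u} : Set G) with hCdef
  have hmap : CH.map H.subtype ≤ C := by
    rintro _ ⟨c, hc, rfl⟩
    exact mem_centralizer_singleton_iff.mpr
      (congrArg Subtype.val (mem_centralizer_singleton_iff.mp hc))
  have hC48 : Nat.card C = 48 := by
    have h48 : 48 ∣ Nat.card C := by
      rw [← hCH48, show Nat.card CH = Nat.card (CH.map H.subtype) from
        (card_map_of_injective H.subtype_injective).symm]
      exact card_dvd_of_le hmap
    obtain ⟨k, hk⟩ := h48
    have h117 : k ∣ 117 := by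
      have := card_subgroup_dvd_card C
      rw [hN, hk, show (5616 : ℕ) = 48 * 117 from rfl] at this
      exact Nat.dvd_of_mul_dvd_mul_left (by norm_num) this
    have h3 : ¬ 3 ∣ k := fun h3 => by
      have h9 : 3 ^ 2 ∣ Nat.card C := by rw [hk]; exact mul_dvd_mul (by norm_num : 3 ∣ 48) h3
      obtain ⟨E, hE⟩ := Sylow.exists_subgroup_card_pow_prime (G := C) 3 h9
      refine no_invol_nine hna hN hD (E.map C.subtype) ?_ u hu ?_
      · rw [card_map_of_injective C.subtype_injective, hE]; norm_num
      · rintro _ ⟨e, -, rfl⟩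
        exact (mem_centralizer_singleton_iff.mp e.2).symm
    have h13 : ¬ 13 ∣ k := fun h13 => by
      haveI : Fact (Nat.Prime 13) := ⟨by norm_num⟩
      obtain ⟨w, hw⟩ := exists_prime_orderOf_dvd_card' (G := C) 13 (hk ▸ h13.mul_left 48)
      have hwo : orderOf (w : G) = 13 := by rw [Subgroup.orderOf_coe, hw]
      have hmemu : u ∈ centralizer ({(w : G)} : Set G) :=
        mem_centralizer_singleton_iff.mpr (mem_centralizer_singleton_iff.mp w.2).symm
      have h2 := (centralizer ({(w : G)} : Set G)).orderOf_dvd_natCard hmemu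
      rw [hD.cent _ hwo, hu] at h2
      norm_num at h2
    have hk1 : k = 1 := by
      have := Nat.le_of_dvd (by norm_num) h117
      revert h117 h3 h13
      interval_cases k <;> norm_num
    rw [hk, hk1]
  have heq : CH.map H.subtype = C := by
    refine eq_of_le_of_card_ge hmap ?_
    rw [hC48, card_map_of_injective H.subtype_injective, hCH48]
  exact ⟨u, hu, ⟨((MulEquiv.subgroupCongr heq).symm.trans
    (CH.equivMapOfInjective H.subtype H.subtype_injective).symm).trans (MulEquiv.ofBijective θ hθ)⟩⟩

/-- Two simple groups of order 5616 are isomorphic. -/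
theorem iso_SLThree [IsSimpleGroup G] (hna : ¬ IsMulCommutative G) (hN : Nat.card G = 5616) :
    Nonempty (G ≃* Lead.CommGraph.SLThree) := by
  haveI : Fact (Nat.Prime 3) := ⟨Nat.prime_three⟩
  obtain ⟨u, hu, ⟨e⟩⟩ := exists_involution hna hN
  let S : Lead.GLTwoThree.Hyp G u := ⟨hu, e, hN, inferInstance⟩
  exact S.iso_SLThree

end Cfsg.Agent.Char.SmallOrderGraph.ThreeThree
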